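import Mathlib
import Groth.Agent.Lib.Helper5.TorAmp.FlatAcyc
import Groth.Agent.Lib.Helper5.TorAmp.Char

set_option autoImplicit false
universe u
open CategoryTheory Limits CochainComplex MonoidalCategory TensorProduct Pretriangulated

attribute [local instance] HasDerivedCategory.standard

namespace Helper5.Nak

open Groth.Agent.Helper5.FlatAcyc DerivedCategory

section General

variable {C : Type*} [Category C] [Abelian C]
  {S : ShortComplex (CochainComplex C ℤ)} (hS : S.ShortExact)

include hS in
theorem quasiIso_g_of_acyclic_X₁ [HasDerivedCategory C] (h : S.X₁.Acyclic) : QuasiIso S.g := by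
  have hT := triangleOfSES_distinguished hS
  rw [← isIso_Q_map_iff_quasiIso]
  exact (Triangle.isZero₁_iff_isIso₂ _ hT).1 ((isZero_Q_iff_acyclic _).2 h)

include hS in
theorem quasiIso_f_of_acyclic_X₃ [HasDerivedCategory C] (h : S.X₃.Acyclic) : QuasiIso S.f := by
  have hT := triangleOfSES_distinguished hS
  rw [← isIso_Q_map_iff_quasiIso]
  exact (Triangle.isZero₃_iff_isIso₁ _ hT).1 ((isZero_Q_iff_acyclic _).2 h)

end General

variable {A : Type u} [CommRing A]

/-- functoriality of `P ⊗ N` in `N` -/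
noncomputable def tmMap {N N' : ModuleCat.{u} A} (g : N ⟶ N')
    (P : CochainComplex (ModuleCat.{u} A) ℤ) : (TM N).obj P ⟶ (TM N').obj P where
  f i := P.X i ◁ g
  comm' i j _ := whisker_exchange (P.d i j) g

lemma tmMap_comp {N N' N'' : ModuleCat.{u} A} (g : N ⟶ N') (g' : N' ⟶ N'')
    (P : CochainComplex (ModuleCat.{u} A) ℤ) : tmMap (g ≫ g') P = tmMap g P ≫ tmMap g' P := by
  ext i : 1
  exact MonoidalCategory.whiskerLeft_comp _ _ _

lemma tmMap_smul_id (a : A) (N : ModuleCat.{u} A) (P : CochainComplex (ModuleCat.{u} A) ℤ) :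
    tmMap (a • 𝟙 N) P = a • 𝟙 _ := by
  ext i : 1
  apply ModuleCat.MonoidalCategory.tensor_ext
  intro x n
  change (P.X i ◁ (a • 𝟙 N)).hom (x ⊗ₜ n) = a • (x ⊗ₜ[A] n)
  rw [ModuleCat.MonoidalCategory.whiskerLeft_apply]
  change x ⊗ₜ[A] (a • n) = a • (x ⊗ₜ[A] n)
  rw [TensorProduct.tmul_smul]

lemma TM_map_smul_id (a : A) (N : ModuleCat.{u} A) (P : CochainComplex (ModuleCat.{u} A) ℤ) :
    (TM N).map (a • 𝟙 P) = a • 𝟙 _ := by
  ext i : 1
  apply ModuleCat.MonoidalCategory.tensor_ext
  intro x n
  change ((a • 𝟙 (P.X i)) ▷ N).hom (x ⊗ₜ n) = a • (x ⊗ₜ[A] n)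
  rw [ModuleCat.MonoidalCategory.whiskerRight_apply]
  change (a • x) ⊗ₜ[A] n = a • (x ⊗ₜ[A] n)
  rw [TensorProduct.smul_tmul']

/-- tensoring a flat module with a short exact sequence -/
theorem shortExact_whiskerLeft (X : ModuleCat.{u} A) [Module.Flat A X]
    (S : ShortComplex (ModuleCat.{u} A)) (hS : S.ShortExact) :
    (ShortComplex.mk (X ◁ S.f) (X ◁ S.g)
      (by rw [← MonoidalCategory.whiskerLeft_comp, S.zero, MonoidalPreadditive.whiskerLeft_zero])).ShortExact := by
  have hf : Function.Injective S.f.hom := (ModuleCat.mono_iff_injective _).1 hS.mono_f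
  have hg : Function.Surjective S.g.hom := (ModuleCat.epi_iff_surjective _).1 hS.epi_g
  have hex : Function.Exact S.f.hom S.g.hom := (ShortComplex.ShortExact.moduleCat_exact_iff_function_exact S).1 hS.exact
  refine { exact := ?_, mono_f := ?_, epi_g := ?_ }
  · rw [ShortComplex.ShortExact.moduleCat_exact_iff_function_exact]
    change Function.Exact (X ◁ S.f).hom (X ◁ S.g).hom
    rw [ModuleCat.hom_whiskerLeft, ModuleCat.hom_whiskerLeft]
    exact lTensor_exact X hex hg
  · rw [ModuleCat.mono_iff_injective]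
    change Function.Injective (X ◁ S.f).hom
    rw [ModuleCat.hom_whiskerLeft]
    exact Module.Flat.lTensor_preserves_injective_linearMap _ hf
  · rw [ModuleCat.epi_iff_surjective]
    change Function.Surjective (X ◁ S.g).hom
    rw [ModuleCat.hom_whiskerLeft]
    exact LinearMap.lTensor_surjective X hg

/-- tensoring a termwise flat complex with a short exact sequence of modules -/
theorem shortExact_tmMap (P : CochainComplex (ModuleCat.{u} A) ℤ) (hP : DRing.TermwiseFlat P)
    (S : ShortComplex (ModuleCat.{u} A)) (hS : S.ShortExact) :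
    (ShortComplex.mk (tmMap S.f P) (tmMap S.g P)
      (by rw [← tmMap_comp, S.zero]; ext i : 1; exact MonoidalPreadditive.whiskerLeft_zero)).ShortExact := by
  apply HomologicalComplex.shortExact_of_degreewise_shortExact
  intro i
  have := hP i
  exact shortExact_whiskerLeft (P.X i) S hS

end Helper5.Nak
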