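import Mathlib
import Groth.Agent.Lib.Helper5.KProj.Colim
import Groth.Agent.Lib.Helper5.TorAmp.FlatAcyc
import Groth.Agent.Lib.Helper5.TorAmp.Char

set_option autoImplicit false
universe u
open CategoryTheory Limits CochainComplex TensorProduct ZeroObject

namespace Helper5.Nak

open Groth.Agent.Lib.Helper5.KProj Groth.Agent.Helper5.FlatAcyc

variable {R : Type u} [CommRing R]

section Mod

variable {M : Type*} [AddCommGroup M] [Module R M] (Mk : ℕ → Type*)
  [∀ k, AddCommGroup (Mk k)] [∀ k, Module R (Mk k)]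
  (ι : ∀ k, Mk k →ₗ[R] M) (t : ∀ {k k' : ℕ}, k ≤ k' → (Mk k →ₗ[R] Mk k'))

include t in
/-- a sequential union of flat modules is flat -/
theorem flat_of_sequential
    (hι : ∀ (k k' : ℕ) (h : k ≤ k') (y : Mk k), ι k' (t h y) = ι k y)
    (hsurj : ∀ x : M, ∃ (k : ℕ) (y : Mk k), ι k y = x)
    (hinj : ∀ (k : ℕ) (y : Mk k), ι k y = 0 → ∃ (k' : ℕ) (h : k ≤ k'), t h y = 0)
    (hflat : ∀ k, Module.Flat R (Mk k)) : Module.Flat R M := by
  rw [Module.Flat.iff_lift_lsmul_comp_subtype_injective]
  intro I _
  have hιl : ∀ (k k' : ℕ) (h : k ≤ k'), ι k' ∘ₗ t h = ι k := fun k k' h =>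
    LinearMap.ext (hι k k' h)
  have hnat : ∀ (k : ℕ) (y : I ⊗[R] Mk k),
      TensorProduct.lift ((LinearMap.lsmul R M).comp I.subtype) ((ι k).lTensor I y) =
        ι k (TensorProduct.lift ((LinearMap.lsmul R (Mk k)).comp I.subtype) y) := by
    intro k y
    induction y using TensorProduct.induction_on with
    | zero => simp
    | tmul a m => simp
    | add y₁ y₂ h₁ h₂ => simp only [map_add, h₁, h₂]
  have hnat' : ∀ (k k' : ℕ) (h : k ≤ k') (y : I ⊗[R] Mk k),
      TensorProduct.lift ((LinearMap.lsmul R (Mk k')).comp I.subtype) ((t h).lTensor I y) =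
        t h (TensorProduct.lift ((LinearMap.lsmul R (Mk k)).comp I.subtype) y) := by
    intro k k' h y
    induction y using TensorProduct.induction_on with
    | zero => simp
    | tmul a m => simp
    | add y₁ y₂ h₁ h₂ => simp only [map_add, h₁, h₂]
  have hrep : ∀ x : I ⊗[R] M, ∃ (k : ℕ) (y : I ⊗[R] Mk k), (ι k).lTensor I y = x := by
    intro x
    induction x using TensorProduct.induction_on with
    | zero => exact ⟨0, 0, by simp⟩
    | tmul a m =>
      obtain ⟨k, y, rfl⟩ := hsurj m
      exact ⟨k, a ⊗ₜ y, by simp⟩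
    | add x₁ x₂ h₁ h₂ =>
      obtain ⟨k₁, y₁, rfl⟩ := h₁
      obtain ⟨k₂, y₂, rfl⟩ := h₂
      refine ⟨max k₁ k₂, (t (le_max_left k₁ k₂)).lTensor I y₁ +
        (t (le_max_right k₁ k₂)).lTensor I y₂, ?_⟩
      rw [map_add, ← LinearMap.comp_apply, ← LinearMap.comp_apply, ← LinearMap.lTensor_comp,
        ← LinearMap.lTensor_comp, hιl, hιl]
  rw [injective_iff_map_eq_zero]
  intro x hx
  obtain ⟨k, y, rfl⟩ := hrep x
  rw [hnat] at hx
  obtain ⟨k', h, hk'⟩ := hinj k _ hx
  rw [← hnat'] at hk'
  have hfl := (Module.Flat.iff_lift_lsmul_comp_subtype_injective.1 (hflat k')) ‹I.FG›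
  have h0 : (t h).lTensor I y = 0 := by
    apply hfl
    rw [hk', map_zero]
  rw [← hιl k k' h, LinearMap.lTensor_comp, LinearMap.comp_apply, h0, map_zero]

end Mod

section Cx

variable (D : ℕ ⥤ CochainComplex (ModuleCat.{u} R) ℤ) (c : Cocone D) (hc : IsColimit c)

include hc in
theorem termwiseFlat_of_colimit (h : ∀ k, DRing.TermwiseFlat (D.obj k)) :
    DRing.TermwiseFlat c.pt := by
  intro n
  refine flat_of_sequential (R := R) (M := c.pt.X n) (fun k => (D.obj k).X n)
    (fun k => ((cι D c k).f n).hom) (fun {k k'} h => ((D.map (homOfLE h)).f n).hom) ?_ ?_ ?_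
    (fun k => h k n)
  · intro k k' h y
    exact ι_map_apply D c n h y
  · intro x
    exact exists_rep D c hc n x
  · intro k y hy
    exact exists_map_eq_zero D c hc n k y hy

end Cx

variable (X : CochainComplex (ModuleCat.{u} R) ℤ)

theorem termwiseFlat_stage : ∀ k : ℕ, DRing.TermwiseFlat (stage X k).P
  | 0 => by
    intro n
    have hz : IsZero ((stage X 0).P.X n) := by
      change IsZero ((0 : CochainComplex (ModuleCat.{u} R) ℤ).X n)
      exact (HomologicalComplex.eval _ _ n).map_isZero (isZero_zero _)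
    have : Subsingleton ((stage X 0).P.X n) := ModuleCat.subsingleton_of_isZero hz
    infer_instance
  | k + 1 => by
    intro n
    refine flat_cone (cellMap (stage X k).f) ?_ (termwiseFlat_stage k) n
    intro i
    have : Projective ((cellCx (stage X k).f).X i) := inferInstance
    exact Groth.Agent.Helper1.TorL.flat_of_projective _

theorem termwiseFlat_res : DRing.TermwiseFlat (res X) := by
  refine termwiseFlat_of_colimit (stageD X) (colimit.cocone (stageD X)) (colimit.isColimit _) ?_
  intro k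
  change DRing.TermwiseFlat (stage X k).P
  exact termwiseFlat_stage X k

/-- K-projective resolutions with flat terms -/
theorem exists_kprojective_flat_resolution :
    ∃ (P : CochainComplex (ModuleCat.{u} R) ℤ) (f : P ⟶ X), P.IsKProjective ∧
      DRing.TermwiseFlat P ∧ QuasiIso f :=
  ⟨res X, resMap X, inferInstance, termwiseFlat_res X, inferInstance⟩

end Helper5.Nak
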