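import Mathlib
import Groth.Agent.Lib.Helper5.TorAmp.FlatAcyc

set_option autoImplicit false
universe u
open CategoryTheory Limits CochainComplex MonoidalCategory TensorProduct

namespace Helper5.Nak

open Groth.Agent.Helper5.FlatAcyc

variable {A : Type u} [CommRing A] (I : Ideal A)

/-- `A/I` as a module -/
abbrev AI : ModuleCat.{u} A := ModuleCat.of A (A ⧸ I)

/-- `x ↦ x ⊗ 1` -/
noncomputable def nu (X : ModuleCat.{u} A) : X ⟶ X ⊗ AI I :=
  ModuleCat.ofHom ((TensorProduct.mk A X (A ⧸ I)).flip 1)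

lemma nu_apply (X : ModuleCat.{u} A) (x : X) :
    (nu I X).hom x = x ⊗ₜ[A] (1 : A ⧸ I) := rfl

lemma nu_naturality {X Y : ModuleCat.{u} A} (f : X ⟶ Y) :
    f ≫ nu I Y = nu I X ≫ (f ▷ AI I) := by
  ext x
  rfl

/-- the chain map `P ⟶ P ⊗ A/I` -/
noncomputable def nuCx (P : CochainComplex (ModuleCat.{u} A) ℤ) : P ⟶ (TM (AI I)).obj P where
  f i := nu I (P.X i)
  comm' i j _ := (nu_naturality I (P.d i j)).symm

variable {I}
variable (N : ModuleCat.{u} A) (hN : ∀ a ∈ I, ∀ x : N, a • x = 0)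

/-- the action map `(A/I) ⊗ N ⟶ N` for `N` killed by `I` -/
noncomputable def act : AI I ⊗ N ⟶ N :=
  ModuleCat.ofHom (TensorProduct.lift (Submodule.liftQ I (LinearMap.lsmul A N) (by
    intro a ha
    rw [LinearMap.mem_ker]
    ext x
    exact hN a ha x)))

lemma act_tmul (a : A) (n : N) :
    (act N hN).hom ((Submodule.Quotient.mk a : A ⧸ I) ⊗ₜ[A] n) = a • n := rfl

/-- `(X ⊗ A/I) ⊗ N ⟶ X ⊗ N` -/
noncomputable def rho (X : ModuleCat.{u} A) : (X ⊗ AI I) ⊗ N ⟶ X ⊗ N :=
  (α_ X (AI I) N).hom ≫ X ◁ act N hN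

lemma rho_naturality {X Y : ModuleCat.{u} A} (f : X ⟶ Y) :
    ((f ▷ AI I) ▷ N) ≫ rho N hN Y = rho N hN X ≫ (f ▷ N) := by
  rw [rho, rho, associator_naturality_left_assoc, Category.assoc, whisker_exchange]

lemma nu_rho (X : ModuleCat.{u} A) : (nu I X ▷ N) ≫ rho N hN X = 𝟙 _ := by
  apply ModuleCat.MonoidalCategory.tensor_ext
  intro x n
  change ((X ◁ act N hN).hom ((α_ X (AI I) N).hom.hom ((nu I X ▷ N).hom (x ⊗ₜ n)))) = x ⊗ₜ n
  rw [ModuleCat.MonoidalCategory.whiskerRight_apply, nu_apply,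
    ModuleCat.MonoidalCategory.associator_hom_apply,
    ModuleCat.MonoidalCategory.whiskerLeft_apply]
  have : (act N hN).hom ((1 : A ⧸ I) ⊗ₜ[A] n) = n := by
    have := act_tmul N hN 1 n
    rw [one_smul] at this
    exact this
  rw [this]

/-- the chain map `(P ⊗ A/I) ⊗ N ⟶ P ⊗ N` -/
noncomputable def rhoCx (P : CochainComplex (ModuleCat.{u} A) ℤ) :
    (TM N).obj ((TM (AI I)).obj P) ⟶ (TM N).obj P where
  f i := rho N hN (P.X i)
  comm' i j _ := (rho_naturality N hN (P.d i j)).symm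

lemma nuCx_rhoCx (P : CochainComplex (ModuleCat.{u} A) ℤ) :
    (TM N).map (nuCx I P) ≫ rhoCx N hN P = 𝟙 _ := by
  ext i : 1
  exact nu_rho N hN (P.X i)

lemma acyclic_of_homotopy_id_zero {C : Type*} [Category C] [Abelian C]
    (X : CochainComplex C ℤ) (h : Homotopy (𝟙 X) 0) : X.Acyclic := by
  intro n
  rw [HomologicalComplex.exactAt_iff_isZero_homology, IsZero.iff_id_eq_zero]
  have := h.homologyMap_eq n
  rw [HomologicalComplex.homologyMap_id, HomologicalComplex.homologyMap_zero] at this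
  exact this

include hN in
/-- if `P` is K-projective and `P ⊗ A/I` is acyclic, then `P ⊗ N` is contractible for every
module `N` killed by `I` -/
noncomputable def homotopyIdZero (P : CochainComplex (ModuleCat.{u} A) ℤ) [P.IsKProjective]
    (hP : ((TM (AI I)).obj P).Acyclic) : Homotopy (𝟙 ((TM N).obj P)) 0 := by
  have h := IsKProjective.homotopyZero (nuCx I P) hP
  have h' := ((tensorRight N).mapHomotopy h).compRight (rhoCx N hN P)
  refine (Homotopy.ofEq ?_).trans (h'.trans (Homotopy.ofEq ?_))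
  · exact (nuCx_rhoCx N hN P).symm
  · rw [Functor.map_zero, zero_comp]

include hN in
theorem acyclic_tensor_of_killed (P : CochainComplex (ModuleCat.{u} A) ℤ) [P.IsKProjective]
    (hP : ((TM (AI I)).obj P).Acyclic) : ((TM N).obj P).Acyclic :=
  acyclic_of_homotopy_id_zero _ (homotopyIdZero N hN P hP)

end Helper5.Nak
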