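import Mathlib
import Groth.Agent.Lib.Helper5.Nak.FlatRes
import Groth.Agent.Lib.Helper5.Nak.Killed
import Groth.Agent.Lib.Helper5.Nak.SESTensor
import Groth.Agent.Lib.Helper5.KProj.Tri
import Groth.Agent.Lib.Helper5.KProj.LTen
import Groth.Agent.Lib.Helper5.TorAmp.Tri
import Groth.Agent.Lib.Helper5.DComp.Iter

set_option autoImplicit false
universe u
open CategoryTheory Limits CochainComplex MonoidalCategory TensorProduct Pretriangulated

attribute [local instance] HasDerivedCategory.standard

namespace Helper5.Nak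

open Groth.Agent.Helper5.FlatAcyc Groth.Agent.Helper5.TorAmp DerivedCategory Helper5.DMod
  Helper5.DComp Groth.Agent.Lib.Helper5.KProj

variable {A : Type u} [CommRing A]

lemma homologyMap_smul_id (P : CochainComplex (ModuleCat.{u} A) ℤ) (a : A) (n : ℤ) :
    HomologicalComplex.homologyMap (a • 𝟙 P) n = a • 𝟙 _ := by
  have h := ShortComplex.homologyMap_smul
    ((HomologicalComplex.shortComplexFunctor (ModuleCat.{u} A) (ComplexShape.up ℤ) n).map (𝟙 P)) a
  rw [CategoryTheory.Functor.map_id, ShortComplex.homologyMap_id] at h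
  exact h

/-- the multiplication by `f` is a quasi-isomorphism on `P ⊗ N` as soon as `P ⊗ N[f]` and
`P ⊗ N/fN` are acyclic -/
theorem quasiIso_smul_of_acyclic (P : CochainComplex (ModuleCat.{u} A) ℤ)
    (hP : DRing.TermwiseFlat P) (N : ModuleCat.{u} A) (f : A)
    (h1 : ((TM (ModuleCat.of A (LinearMap.ker (LinearMap.lsmul A N f)))).obj P).Acyclic)
    (h2 : ((TM (ModuleCat.of A (N ⧸ LinearMap.range (LinearMap.lsmul A N f)))).obj P).Acyclic) :
    QuasiIso (f • 𝟙 ((TM N).obj P)) := by
  set u : N →ₗ[A] N := LinearMap.lsmul A N f with hu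
  let S1 : ShortComplex (ModuleCat.{u} A) :=
    ShortComplex.mk (ModuleCat.ofHom (LinearMap.ker u).subtype)
      (ModuleCat.ofHom u.rangeRestrict) (by
        ext x
        exact x.2)
  let S2 : ShortComplex (ModuleCat.{u} A) :=
    ShortComplex.mk (ModuleCat.ofHom (LinearMap.range u).subtype)
      (ModuleCat.ofHom (LinearMap.range u).mkQ) (by
        ext x
        exact (Submodule.Quotient.mk_eq_zero _).2 x.2)
  have hS1 : S1.ShortExact := by
    refine { exact := ?_, mono_f := ?_, epi_g := ?_ }
    · rw [ShortComplex.ShortExact.moduleCat_exact_iff_function_exact]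
      intro x
      constructor
      · intro hx
        have : u x = 0 := congrArg Subtype.val hx
        exact ⟨⟨x, this⟩, rfl⟩
      · rintro ⟨y, rfl⟩
        apply Subtype.ext
        exact y.2
    · rw [ModuleCat.mono_iff_injective]
      exact Subtype.val_injective
    · rw [ModuleCat.epi_iff_surjective]
      exact LinearMap.surjective_rangeRestrict u
  have hS2 : S2.ShortExact := by
    refine { exact := ?_, mono_f := ?_, epi_g := ?_ }
    · rw [ShortComplex.ShortExact.moduleCat_exact_iff_function_exact]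
      intro x
      constructor
      · intro hx
        have : x ∈ LinearMap.range u := (Submodule.Quotient.mk_eq_zero _).1 hx
        exact ⟨⟨x, this⟩, rfl⟩
      · rintro ⟨y, rfl⟩
        exact (Submodule.Quotient.mk_eq_zero _).2 y.2
    · rw [ModuleCat.mono_iff_injective]
      exact Subtype.val_injective
    · rw [ModuleCat.epi_iff_surjective]
      exact Submodule.mkQ_surjective _
  have q1 : QuasiIso (tmMap S1.g P) :=
    quasiIso_g_of_acyclic_X₁ (shortExact_tmMap P hP S1 hS1) h1
  have q2 : QuasiIso (tmMap S2.f P) :=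
    quasiIso_f_of_acyclic_X₃ (shortExact_tmMap P hP S2 hS2) h2
  have hcomp : S1.g ≫ S2.f = f • 𝟙 N := by
    ext x
    rfl
  rw [← tmMap_smul_id, ← hcomp, tmMap_comp]
  infer_instance

lemma killed_ker (N : ModuleCat.{u} A) (f : A) (l : Set A)
    (hN : ∀ a ∈ Ideal.span l, ∀ x : N, a • x = 0) :
    ∀ a ∈ Ideal.span (insert f l),
      ∀ x : (ModuleCat.of A (LinearMap.ker (LinearMap.lsmul A N f))), a • x = 0 := by
  intro a ha x
  rw [Ideal.span_insert, Submodule.mem_sup] at ha
  obtain ⟨b, hb, c, hc, rfl⟩ := ha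
  rw [Ideal.mem_span_singleton'] at hb
  obtain ⟨r, rfl⟩ := hb
  apply Subtype.ext
  have h1 : f • (x.1 : N) = 0 := x.2
  have h2 : c • (x.1 : N) = 0 := hN c hc x.1
  change (r * f + c) • (x.1 : N) = 0
  rw [add_smul, mul_smul, h1, smul_zero, h2, add_zero]

lemma killed_quot (N : ModuleCat.{u} A) (f : A) (l : Set A)
    (hN : ∀ a ∈ Ideal.span l, ∀ x : N, a • x = 0) :
    ∀ a ∈ Ideal.span (insert f l),
      ∀ x : (ModuleCat.of A (N ⧸ LinearMap.range (LinearMap.lsmul A N f))), a • x = 0 := by
  intro a ha x
  rw [Ideal.span_insert, Submodule.mem_sup] at ha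
  obtain ⟨b, hb, c, hc, rfl⟩ := ha
  rw [Ideal.mem_span_singleton'] at hb
  obtain ⟨r, rfl⟩ := hb
  obtain ⟨y, rfl⟩ := Submodule.Quotient.mk_surjective _ x
  change Submodule.Quotient.mk ((r * f + c) • y) = 0
  rw [Submodule.Quotient.mk_eq_zero, add_smul, hN c hc y, add_zero, mul_smul]
  exact ⟨r • y, by simp⟩


/-- derived completeness of the homology of the cone of a multiplication -/
lemma DC_homology_cone (P : CochainComplex (ModuleCat.{u} A) ℤ) (f g : A)
    (h : ∀ n, DC g (P.homology n)) (n : ℤ) :
    DC g ((mappingCone (f • 𝟙 P)).homology n) := by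
  have h1 : DRing.IsDerivedComplete (Ideal.span {g}) (Q.obj P) := by
    rw [idc_Q_iff]
    intro g' hg' n
    exact DC_of_mem_span (s := {g}) (fun x hx => by
      rw [Set.mem_singleton_iff] at hx; subst hx; exact h n) hg'
  have h2 : DRing.IsDerivedComplete (Ideal.span {g}) (Q.obj (mappingCone (f • 𝟙 P))) :=
    isDerivedComplete_obj₃ (Ideal.span {g}) _ (coneTriangle_distinguished (f • 𝟙 P)) h1 h1
  rw [idc_Q_iff] at h2
  exact h2 g (Ideal.subset_span rfl) n

/-- the key induction: a K-projective, termwise flat complex which is derived complete with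
respect to the elements of a list and whose tensor products with all modules killed by these
elements are acyclic, is acyclic -/
theorem acyclic_of_list : ∀ (l : List A) (P : CochainComplex (ModuleCat.{u} A) ℤ)
    [P.IsKProjective], DRing.TermwiseFlat P → (∀ g ∈ l, ∀ n, DC g (P.homology n)) →
    (∀ N : ModuleCat.{u} A, (∀ a ∈ Ideal.span {x | x ∈ l}, ∀ x : N, a • x = 0) →
      ((TM N).obj P).Acyclic) → P.Acyclic
  | [], P, _, _, _, H => by
    have h := H (𝟙_ (ModuleCat.{u} A)) (by
      intro a ha x
      have : a = 0 := by simpa using ha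
      rw [this, zero_smul])
    intro n
    exact (h n).of_iso (tmUnitIso P)
  | f :: l, P, hK, hfl, hDC, H => by
    have hK' : (mappingCone (f • 𝟙 P)).IsKProjective := isKProjective_mappingCone _
    have hfl' : DRing.TermwiseFlat (mappingCone (f • 𝟙 P)) := flat_cone' _ hfl hfl
    have hDC' : ∀ g ∈ l, ∀ n, DC g ((mappingCone (f • 𝟙 P)).homology n) := fun g hg n =>
      DC_homology_cone P f g (hDC g (List.mem_cons_of_mem _ hg)) n
    have hset : {x | x ∈ f :: l} = insert f {x | x ∈ l} := by
      ext x
      simp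
    have H' : ∀ N : ModuleCat.{u} A, (∀ a ∈ Ideal.span {x | x ∈ l}, ∀ x : N, a • x = 0) →
        ((TM N).obj (mappingCone (f • 𝟙 P))).Acyclic := by
      intro N hN
      have hq : QuasiIso (f • 𝟙 ((TM N).obj P)) := quasiIso_smul_of_acyclic P hfl N f
        (H _ (by rw [hset]; exact killed_ker N f _ hN))
        (H _ (by rw [hset]; exact killed_quot N f _ hN))
      rw [← TM_map_smul_id, quasiIso_iff_acyclic_cone] at hq
      intro n
      exact (hq n).of_iso (mappingCone.mapHomologicalComplexIso (f • 𝟙 P) (tensorRight N)).symm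
    have hacyc := acyclic_of_list l (mappingCone (f • 𝟙 P)) hfl' hDC' H'
    have hq : QuasiIso (f • 𝟙 P) := (quasiIso_iff_acyclic_cone _).2 hacyc
    intro n
    rw [HomologicalComplex.exactAt_iff_isZero_homology]
    have hiso : IsIso (HomologicalComplex.homologyMap (f • 𝟙 P) n) := by
      have := hq.quasiIsoAt n
      exact (quasiIsoAt_iff_isIso_homologyMap _ _).1 this
    rw [homologyMap_smul_id] at hiso
    have hsurj : Function.Surjective (fun m : P.homology n => f • m) :=
      (ModuleCat.epi_iff_surjective _).1 (inferInstance : Epi (f • 𝟙 (P.homology n)))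
    have := subsingleton_of_smul_surjective (hDC f (List.mem_cons_self) n).1 hsurj
    exact ModuleCat.isZero_of_subsingleton _

/-- **Derived Nakayama**: a derived complete object `K` with `K ⊗^L A/I = 0` vanishes. -/
theorem nakayama (I : Ideal A) (hI : I.FG) [DRing.HasLTensor A (AI I)]
    (K : Dual.D A) (hc : DRing.IsDerivedComplete I K)
    (h0 : IsZero ((DRing.LTensor A (AI I)).obj K)) : IsZero K := by
  obtain ⟨s, hs⟩ := hI
  obtain ⟨P, p, hP, hfl, hp⟩ := exists_kprojective_flat_resolution (Q.objPreimage K)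
  let e : Q.obj P ≅ K := asIso (Q.map p) ≪≫ Q.objObjPreimageIso K
  have hset : {x | x ∈ s.toList} = (s : Set A) := by
    ext x
    simp
  have hacyc : ((TM (AI I)).obj P).Acyclic := by
    rw [← isZero_Q_iff_acyclic]
    exact (h0.of_iso ((DRing.LTensor A (AI I)).mapIso e)).of_iso (ltIso (AI I) P).symm
  have hDC : ∀ g ∈ s.toList, ∀ n, DC g (P.homology n) := by
    intro g hg n
    have h1 := isDerivedComplete_of_iso I e.symm hc
    rw [idc_Q_iff] at h1
    refine h1 g ?_ n
    rw [← hs]
    exact Ideal.subset_span (Finset.mem_toList.mp hg)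
  have hP' := acyclic_of_list s.toList P hfl hDC (by
    intro N hN
    rw [hset, hs] at hN
    exact acyclic_tensor_of_killed N hN P hacyc)
  exact ((isZero_Q_iff_acyclic P).2 hP').of_iso e.symm

end Helper5.Nak
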