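import Mathlib
import Groth.Agent.Lib.Helper5.Nak.Killed

set_option autoImplicit false
universe u
open CategoryTheory Limits CochainComplex MonoidalCategory TensorProduct

namespace Helper5.Nak

open Groth.Agent.Helper5.FlatAcyc

section General

variable {C : Type*} [Category C] [Abelian C]

lemma isIso_πTruncGE_f (K : CochainComplex C ℤ) (n i : ℤ) (hi : n < i) :
    IsIso ((K.πTruncGE n).f i) := by
  obtain ⟨k, hk⟩ : ∃ k : ℕ, (ComplexShape.embeddingUpIntGE n).f k = i :=
    ⟨(i - n).toNat, by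
      change n + ((i - n).toNat : ℤ) = i
      rw [Int.toNat_of_nonneg (by omega)]
      omega⟩
  have h1 : IsIso ((HomologicalComplex.restrictionToTruncGE' K
      (ComplexShape.embeddingUpIntGE n)).f k) := by
    apply HomologicalComplex.isIso_restrictionToTruncGE'
    rw [ComplexShape.boundaryGE_embeddingUpIntGE_iff]
    intro h0
    subst h0
    change n + ((0 : ℕ) : ℤ) = i at hk
    simp at hk
    omega
  exact ((ComplexShape.embeddingUpIntGE n).isIso_liftExtend_f_iff _
    (K.restrictionToTruncGE'_hasLift _) hk).2 h1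

lemma epi_πTruncGE_f (K : CochainComplex C ℤ) (n i : ℤ) : Epi ((K.πTruncGE n).f i) := by
  dsimp [CochainComplex.πTruncGE]
  infer_instance

end General

variable {A : Type u} [CommRing A] {I : Ideal A}

lemma nu_surjective (X : ModuleCat.{u} A) : Function.Surjective (nu I X).hom := by
  intro t
  induction t using TensorProduct.induction_on with
  | zero => exact ⟨0, map_zero _⟩
  | tmul x a =>
    obtain ⟨a, rfl⟩ := Submodule.Quotient.mk_surjective _ a
    refine ⟨a • x, ?_⟩
    rw [nu_apply]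
    have : (Submodule.Quotient.mk a : A ⧸ I) = a • (1 : A ⧸ I) := by
      have h := Submodule.Quotient.mk_smul I a (1 : A)
      rw [smul_eq_mul, mul_one] at h
      exact h
    rw [this, TensorProduct.smul_tmul]
  | add t₁ t₂ h₁ h₂ =>
    obtain ⟨x₁, rfl⟩ := h₁
    obtain ⟨x₂, rfl⟩ := h₂
    exact ⟨x₁ + x₂, map_add _ _ _⟩

variable (N : ModuleCat.{u} A) (hN : ∀ a ∈ I, ∀ x : N, a • x = 0)

/-- kernels and right exactness of the tensor product -/
lemma ker_rTensor_le_range {X₀ X₁ Y₁ : ModuleCat.{u} A} (d : X₀ ⟶ X₁) (p : X₁ ⟶ Y₁)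
    (hp : Function.Surjective p.hom)
    (hker : ∀ x : X₁, p.hom x = 0 → ∃ y : X₀, d.hom y = x)
    (t : (X₁ ⊗ N : ModuleCat.{u} A)) (ht : (p ▷ N).hom t = 0) :
    ∃ s : (X₀ ⊗ N : ModuleCat.{u} A), (d ▷ N).hom s = t := by
  have hex : Function.Exact (LinearMap.ker p.hom).subtype p.hom := by
    intro x
    constructor
    · intro hx
      exact ⟨⟨x, hx⟩, rfl⟩
    · rintro ⟨y, rfl⟩
      exact y.2
  have hex' := rTensor_exact N hex hp
  obtain ⟨s, hs⟩ := (hex' t).1 ht
  have key : ∀ s : (LinearMap.ker p.hom) ⊗[A] N,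
      ∃ s' : (X₀ ⊗ N : ModuleCat.{u} A),
        (d ▷ N).hom s' = (LinearMap.ker p.hom).subtype.rTensor N s := by
    intro s
    induction s using TensorProduct.induction_on with
    | zero => exact ⟨0, by simp⟩
    | tmul k n =>
      obtain ⟨y, hy⟩ := hker k.1 k.2
      refine ⟨y ⊗ₜ n, ?_⟩
      rw [ModuleCat.MonoidalCategory.whiskerRight_apply, hy]
      rfl
    | add s₁ s₂ h₁ h₂ =>
      obtain ⟨s₁', h₁'⟩ := h₁
      obtain ⟨s₂', h₂'⟩ := h₂
      exact ⟨s₁' + s₂', by rw [map_add, h₁', h₂', map_add]⟩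
  obtain ⟨s', hs'⟩ := key s
  exact ⟨s', hs'.trans hs⟩

lemma homotopy_apply_cycle {K L : CochainComplex (ModuleCat.{u} A) ℤ} {ψ : K ⟶ L}
    (H : Homotopy ψ 0) (i j k : ℤ) (hij : i + 1 = j) (hjk : j + 1 = k) (z : K.X j)
    (hz : (K.d j k).hom z = 0) :
    (ψ.f j).hom z = (L.d i j).hom ((H.hom j i).hom z) := by
  have hcomm := H.comm j
  rw [dNext_eq H.hom (show (ComplexShape.up ℤ).Rel j k from hjk),
    prevD_eq H.hom (show (ComplexShape.up ℤ).Rel i j from hij)] at hcomm
  have hcomm' := congrArg (fun t => t.hom z) hcomm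
  simp only [HomologicalComplex.zero_f, add_zero, ModuleCat.hom_add,
    ModuleCat.hom_comp, LinearMap.add_apply, LinearMap.comp_apply] at hcomm'
  rw [hz, map_zero, zero_add] at hcomm'
  exact hcomm'

variable (I) in
/-- the map `P ⟶ τ_{≥ 1} (P ⊗ A/I)` -/
noncomputable abbrev phiT (P : CochainComplex (ModuleCat.{u} A) ℤ) :
    P ⟶ ((TM (AI I)).obj P).truncGE 1 :=
  nuCx I P ≫ ((TM (AI I)).obj P).πTruncGE 1

include hN in
/-- right t-exactness: if `P` is K-projective and `P ⊗ A/I` is exact in positive degrees, then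
so is `P ⊗ N` for every module `N` killed by `I` -/
theorem exactAt_tensor_of_killed (P : CochainComplex (ModuleCat.{u} A) ℤ) [P.IsKProjective]
    (hP : ∀ j : ℤ, 0 < j → ((TM (AI I)).obj P).ExactAt j) (j : ℤ) (hj : 0 < j) :
    ((TM N).obj P).ExactAt j := by
  have hXle : ((TM (AI I)).obj P).IsLE 0 := (((TM (AI I)).obj P).isLE_iff 0).2 hP
  have hY : (((TM (AI I)).obj P).truncGE 1).Acyclic :=
    (((TM (AI I)).obj P).acyclic_truncGE_iff 0 1).2 hXle
  have h := IsKProjective.homotopyZero (phiT I P) hY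
  have h' : Homotopy ((TM N).map (phiT I P)) 0 :=
    ((tensorRight N).mapHomotopy h).trans (Homotopy.ofEq (Functor.map_zero _ _ _))
  obtain ⟨i, rfl⟩ : ∃ i, j = i + 1 := ⟨j - 1, by ring⟩
  apply exactAt_of_exact ((TM N).obj P) i (i + 1) (i + 1 + 1) rfl rfl
  intro z
  constructor
  swap
  · rintro ⟨w, rfl⟩
    have := congrArg (fun t => t.hom w) (((TM N).obj P).d_comp_d i (i + 1) (i + 1 + 1))
    exact this
  intro hz
  have e1 := homotopy_apply_cycle h' i (i + 1) (i + 1 + 1) rfl rfl z hz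
  -- surjectivity of `φ ⊗ N` in degree `i`
  have hsurj : Function.Surjective (((TM N).map (phiT I P)).f i).hom := by
    change Function.Surjective (((phiT I P).f i ▷ N)).hom
    rw [ModuleCat.hom_whiskerRight]
    apply LinearMap.rTensor_surjective
    change Function.Surjective ((nu I (P.X i) ≫ (((TM (AI I)).obj P).πTruncGE 1).f i)).hom
    rw [ModuleCat.hom_comp]
    exact ((ModuleCat.epi_iff_surjective _).1 (epi_πTruncGE_f _ 1 i)).comp (nu_surjective _)
  obtain ⟨w', hw'⟩ := hsurj ((h'.hom (i + 1) i).hom z)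
  have e2 : ((((TM N).obj (((TM (AI I)).obj P).truncGE 1)).d i (i + 1))).hom
      ((((TM N).map (phiT I P)).f i).hom w') =
      (((TM N).map (phiT I P)).f (i + 1)).hom ((((TM N).obj P).d i (i + 1)).hom w') := by
    have hcd := congrArg (fun t => t.hom w') (((TM N).map (phiT I P)).comm i (i + 1))
    simp only [ModuleCat.hom_comp, LinearMap.comp_apply] at hcd
    exact hcd
  have e3 : (((TM N).map (phiT I P)).f (i + 1)).hom z =
      (((TM N).map (phiT I P)).f (i + 1)).hom ((((TM N).obj P).d i (i + 1)).hom w') := by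
    rw [e1, ← hw', e2]
  -- `z' := z - d w'` is killed by `φ ⊗ N`
  have hz'0 : (((TM N).map (phiT I P)).f (i + 1)).hom
      (z - (((TM N).obj P).d i (i + 1)).hom w') = 0 := by
    rw [map_sub, e3, sub_self]
  have hz'1 : (((((TM (AI I)).obj P).πTruncGE 1).f (i + 1)) ▷ N).hom
      ((nu I (P.X (i + 1)) ▷ N).hom (z - (((TM N).obj P).d i (i + 1)).hom w')) = 0 := by
    have hth : ((TM N).map (phiT I P)).f (i + 1) =
        (nu I (P.X (i + 1)) ▷ N) ≫ (((((TM (AI I)).obj P).πTruncGE 1).f (i + 1)) ▷ N) :=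
      MonoidalCategory.comp_whiskerRight _ _ _
    exact (congrArg (fun t => t.hom (z - (((TM N).obj P).d i (i + 1)).hom w')) hth).symm.trans hz'0
  -- the kernel of `pr` consists of boundaries
  have hiso : IsIso ((((TM (AI I)).obj P).πTruncGE 1).f (i + 1 + 1)) :=
    isIso_πTruncGE_f _ 1 (i + 1 + 1) (by omega)
  have hker : ∀ x : ((TM (AI I)).obj P).X (i + 1),
      ((((TM (AI I)).obj P).πTruncGE 1).f (i + 1)).hom x = 0 →
      ∃ y : ((TM (AI I)).obj P).X i, (((TM (AI I)).obj P).d i (i + 1)).hom y = x := by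
    intro x hx
    have h1 := congrArg (fun t => t.hom x)
      ((((TM (AI I)).obj P).πTruncGE 1).comm (i + 1) (i + 1 + 1))
    simp only [ModuleCat.hom_comp, LinearMap.comp_apply] at h1
    rw [hx, map_zero] at h1
    have hinj : Function.Injective ((((TM (AI I)).obj P).πTruncGE 1).f (i + 1 + 1)).hom :=
      (ModuleCat.mono_iff_injective _).1 inferInstance
    have h2 : (((TM (AI I)).obj P).d (i + 1) (i + 1 + 1)).hom x = 0 :=
      hinj (by rw [map_zero]; exact h1.symm)
    exact (exact_of_exactAt _ i (i + 1) (i + 1 + 1) rfl rfl (hP (i + 1) hj) x).1 h2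
  obtain ⟨y, hy⟩ := ker_rTensor_le_range N (((TM (AI I)).obj P).d i (i + 1))
    ((((TM (AI I)).obj P).πTruncGE 1).f (i + 1))
    ((ModuleCat.epi_iff_surjective _).1 (epi_πTruncGE_f _ 1 (i + 1))) hker _ hz'1
  -- apply `rho`
  have h3 : (rho N hN (P.X (i + 1))).hom (((((TM (AI I)).obj P).d i (i + 1)) ▷ N).hom y) =
      (rho N hN (P.X (i + 1))).hom ((nu I (P.X (i + 1)) ▷ N).hom
        (z - (((TM N).obj P).d i (i + 1)).hom w')) :=
    congrArg (fun t => (rho N hN (P.X (i + 1))).hom t) hy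
  have h4 : (rho N hN (P.X (i + 1))).hom ((nu I (P.X (i + 1)) ▷ N).hom
      (z - (((TM N).obj P).d i (i + 1)).hom w')) = z - (((TM N).obj P).d i (i + 1)).hom w' :=
    congrArg (fun t => t.hom (z - (((TM N).obj P).d i (i + 1)).hom w'))
      (nu_rho N hN (P.X (i + 1)))
  rw [h4] at h3
  have h5 : (rho N hN (P.X (i + 1))).hom ((((P.d i (i + 1)) ▷ AI I) ▷ N).hom y) =
      ((P.d i (i + 1)) ▷ N).hom ((rho N hN (P.X i)).hom y) :=
    congrArg (fun t => t.hom y) (rho_naturality N hN (P.d i (i + 1)))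
  refine ⟨w' + (show ((TM N).obj P).X i from (rho N hN (P.X i)).hom y), ?_⟩
  rw [map_add]
  have h6 : (((TM N).obj P).d i (i + 1)).hom ((rho N hN (P.X i)).hom y) =
      z - (((TM N).obj P).d i (i + 1)).hom w' := by
    exact h5.symm.trans h3
  rw [h6]
  abel

end Helper5.Nak
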