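import Mathlib
import Groth.Agent.Lib.Helper5.Nak.Nakayama
import Groth.Agent.Lib.Helper5.Nak.Trunc

set_option autoImplicit false
universe u
open CategoryTheory Limits CochainComplex MonoidalCategory TensorProduct Pretriangulated

attribute [local instance] HasDerivedCategory.standard

namespace Helper5.Nak

open Groth.Agent.Helper5.FlatAcyc Groth.Agent.Helper5.TorAmp DerivedCategory Helper5.DMod
  Helper5.DComp Groth.Agent.Lib.Helper5.KProj

section General

variable {C : Type*} [Category C] [Abelian C]

lemma epi_map_iff_of_iso {D : Type*} [Category D] {F G : C ⥤ D} (e : F ≅ G) {X Y : C}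
    (f : X ⟶ Y) : Epi (F.map f) ↔ Epi (G.map f) := by
  constructor
  · intro h
    have : G.map f = e.inv.app X ≫ F.map f ≫ e.hom.app Y := by simp
    rw [this]
    infer_instance
  · intro h
    have : F.map f = e.hom.app X ≫ G.map f ≫ e.inv.app Y := by simp
    rw [this]
    infer_instance

lemma mono_map_iff_of_iso {D : Type*} [Category D] {F G : C ⥤ D} (e : F ≅ G) {X Y : C}
    (f : X ⟶ Y) : Mono (F.map f) ↔ Mono (G.map f) := by
  constructor
  · intro h
    have : G.map f = e.inv.app X ≫ F.map f ≫ e.hom.app Y := by simp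
    rw [this]
    infer_instance
  · intro h
    have : F.map f = e.hom.app X ≫ G.map f ≫ e.inv.app Y := by simp
    rw [this]
    infer_instance

variable [HasDerivedCategory C]

lemma epi_H_iff {K L : CochainComplex C ℤ} (φ : K ⟶ L) (n : ℤ) :
    Epi ((homologyFunctor C n).map (Q.map φ)) ↔ Epi (HomologicalComplex.homologyMap φ n) :=
  epi_map_iff_of_iso (homologyFunctorFactors C n) φ

lemma mono_H_iff {K L : CochainComplex C ℤ} (φ : K ⟶ L) (n : ℤ) :
    Mono ((homologyFunctor C n).map (Q.map φ)) ↔ Mono (HomologicalComplex.homologyMap φ n) :=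
  mono_map_iff_of_iso (homologyFunctorFactors C n) φ

/-- the cone of `φ` is exact in degree `j` if `φ` is surjective on `H^j` and injective on
`H^{j+1}` -/
theorem exactAt_cone_of_epi_mono {K L : CochainComplex C ℤ} (φ : K ⟶ L) (j : ℤ)
    (h1 : Epi (HomologicalComplex.homologyMap φ j))
    (h2 : Mono (HomologicalComplex.homologyMap φ (j + 1))) :
    (mappingCone φ).ExactAt j := by
  rw [exactAt_iff_isZero_H]
  have hT := mappingCone_triangle_distinguished φ
  refine (HomologySequence.exact₃ _ hT j (j + 1) rfl).isZero_of_both_zeros ?_ ?_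
  · exact (HomologySequence.epi_homologyMap_mor₁_iff _ hT j).1 ((epi_H_iff φ j).2 h1)
  · exact (HomologySequence.mono_homologyMap_mor₁_iff _ hT j (j + 1) rfl).1
      ((mono_H_iff φ (j + 1)).2 h2)

theorem epi_homologyMap_of_exactAt_cone {K L : CochainComplex C ℤ} (φ : K ⟶ L) (j : ℤ)
    (h : (mappingCone φ).ExactAt j) : Epi (HomologicalComplex.homologyMap φ j) := by
  rw [exactAt_iff_isZero_H] at h
  have hT := mappingCone_triangle_distinguished φ
  rw [← epi_H_iff]
  exact (HomologySequence.epi_homologyMap_mor₁_iff _ hT j).2 (h.eq_of_tgt _ _)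

variable {S : ShortComplex (CochainComplex C ℤ)} (hS : S.ShortExact)

include hS

lemma mono_homologyMap_g (i : ℤ) (h : S.X₁.ExactAt i) :
    Mono (HomologicalComplex.homologyMap S.g i) := by
  rw [HomologicalComplex.exactAt_iff_isZero_homology] at h
  exact (hS.homology_exact₂ i).mono_g (h.eq_of_src _ _)

lemma epi_homologyMap_g (i j : ℤ) (hij : i + 1 = j) (h : S.X₁.ExactAt j) :
    Epi (HomologicalComplex.homologyMap S.g i) := by
  rw [HomologicalComplex.exactAt_iff_isZero_homology] at h
  exact (hS.homology_exact₃ i j hij).epi_f (h.eq_of_tgt _ _)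

lemma epi_homologyMap_f (i : ℤ) (h : S.X₃.ExactAt i) :
    Epi (HomologicalComplex.homologyMap S.f i) := by
  rw [HomologicalComplex.exactAt_iff_isZero_homology] at h
  exact (hS.homology_exact₂ i).epi_f (h.eq_of_tgt _ _)

lemma mono_homologyMap_f (i j : ℤ) (hij : i + 1 = j) (h : S.X₃.ExactAt i) :
    Mono (HomologicalComplex.homologyMap S.f j) := by
  rw [HomologicalComplex.exactAt_iff_isZero_homology] at h
  exact (hS.homology_exact₁ i j hij).mono_g (h.eq_of_src _ _)

end General

variable {A : Type u} [CommRing A]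

section SES

variable (N : ModuleCat.{u} A) (f : A)

/-- `0 → N[f] → N → fN → 0` -/
noncomputable abbrev S1 : ShortComplex (ModuleCat.{u} A) :=
  ShortComplex.mk (ModuleCat.ofHom (LinearMap.ker (LinearMap.lsmul A N f)).subtype)
    (ModuleCat.ofHom (LinearMap.lsmul A N f).rangeRestrict) (by
      ext x
      exact x.2)

/-- `0 → fN → N → N/fN → 0` -/
noncomputable abbrev S2 : ShortComplex (ModuleCat.{u} A) :=
  ShortComplex.mk (ModuleCat.ofHom (LinearMap.range (LinearMap.lsmul A N f)).subtype)
    (ModuleCat.ofHom (LinearMap.range (LinearMap.lsmul A N f)).mkQ) (by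
      ext x
      exact (Submodule.Quotient.mk_eq_zero _).2 x.2)

lemma S1_shortExact : (S1 N f).ShortExact := by
  refine { exact := ?_, mono_f := ?_, epi_g := ?_ }
  · rw [ShortComplex.ShortExact.moduleCat_exact_iff_function_exact]
    intro x
    constructor
    · intro hx
      have : (LinearMap.lsmul A N f) x = 0 := congrArg Subtype.val hx
      exact ⟨⟨x, this⟩, rfl⟩
    · rintro ⟨y, rfl⟩
      apply Subtype.ext
      exact y.2
  · rw [ModuleCat.mono_iff_injective]
    exact Subtype.val_injective
  · rw [ModuleCat.epi_iff_surjective]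
    exact LinearMap.surjective_rangeRestrict _

lemma S2_shortExact : (S2 N f).ShortExact := by
  refine { exact := ?_, mono_f := ?_, epi_g := ?_ }
  · rw [ShortComplex.ShortExact.moduleCat_exact_iff_function_exact]
    intro x
    constructor
    · intro hx
      have : x ∈ LinearMap.range (LinearMap.lsmul A N f) := (Submodule.Quotient.mk_eq_zero _).1 hx
      exact ⟨⟨x, this⟩, rfl⟩
    · rintro ⟨y, rfl⟩
      exact (Submodule.Quotient.mk_eq_zero _).2 y.2
  · rw [ModuleCat.mono_iff_injective]
    exact Subtype.val_injective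
  · rw [ModuleCat.epi_iff_surjective]
    exact Submodule.mkQ_surjective _

lemma S1_g_S2_f : (S1 N f).g ≫ (S2 N f).f = f • 𝟙 N := by
  ext x
  rfl

end SES

/-- the key induction, t-exact version -/
theorem exactAt_of_list : ∀ (l : List A) (P : CochainComplex (ModuleCat.{u} A) ℤ)
    [P.IsKProjective], DRing.TermwiseFlat P → (∀ g ∈ l, ∀ n, DC g (P.homology n)) →
    (∀ N : ModuleCat.{u} A, (∀ a ∈ Ideal.span {x | x ∈ l}, ∀ x : N, a • x = 0) →
      ∀ j : ℤ, 0 < j → ((TM N).obj P).ExactAt j) → ∀ j : ℤ, 0 < j → P.ExactAt j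
  | [], P, _, _, _, H => by
    have h := H (𝟙_ (ModuleCat.{u} A)) (by
      intro a ha x
      have : a = 0 := by simpa using ha
      rw [this, zero_smul])
    intro j hj
    exact (h j hj).of_iso (tmUnitIso P)
  | f :: l, P, hK, hfl, hDC, H => by
    have hK' : (mappingCone (f • 𝟙 P)).IsKProjective := isKProjective_mappingCone _
    have hfl' : DRing.TermwiseFlat (mappingCone (f • 𝟙 P)) := flat_cone' _ hfl hfl
    have hDC' : ∀ g ∈ l, ∀ n, DC g ((mappingCone (f • 𝟙 P)).homology n) := fun g hg n =>
      DC_homology_cone P f g (hDC g (List.mem_cons_of_mem _ hg)) n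
    have hset : {x | x ∈ f :: l} = insert f {x | x ∈ l} := by
      ext x
      simp
    have H' : ∀ N : ModuleCat.{u} A, (∀ a ∈ Ideal.span {x | x ∈ l}, ∀ x : N, a • x = 0) →
        ∀ j : ℤ, 0 < j → ((TM N).obj (mappingCone (f • 𝟙 P))).ExactAt j := by
      intro N hN j hj
      have hX1 := H _ (by rw [hset]; exact killed_ker N f _ hN)
      have hX3 := H _ (by rw [hset]; exact killed_quot N f _ hN)
      have hS1 := shortExact_tmMap P hfl (S1 N f) (S1_shortExact N f)
      have hS2 := shortExact_tmMap P hfl (S2 N f) (S2_shortExact N f)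
      have hφ : (TM N).map (f • 𝟙 P) = tmMap (S1 N f).g P ≫ tmMap (S2 N f).f P := by
        rw [TM_map_smul_id, ← tmMap_comp, S1_g_S2_f, tmMap_smul_id]
      have e1 : Epi (HomologicalComplex.homologyMap ((TM N).map (f • 𝟙 P)) j) := by
        rw [hφ, HomologicalComplex.homologyMap_comp]
        have := epi_homologyMap_g hS1 j (j + 1) rfl (hX1 (j + 1) (by omega))
        have := epi_homologyMap_f hS2 j (hX3 j hj)
        infer_instance
      have e2 : Mono (HomologicalComplex.homologyMap ((TM N).map (f • 𝟙 P)) (j + 1)) := by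
        rw [hφ, HomologicalComplex.homologyMap_comp]
        have := mono_homologyMap_g hS1 (j + 1) (hX1 (j + 1) (by omega))
        have := mono_homologyMap_f hS2 j (j + 1) rfl (hX3 j hj)
        infer_instance
      exact (exactAt_cone_of_epi_mono _ j e1 e2).of_iso
        (mappingCone.mapHomologicalComplexIso (f • 𝟙 P) (tensorRight N)).symm
    have hex := exactAt_of_list l (mappingCone (f • 𝟙 P)) hfl' hDC' H'
    intro j hj
    rw [HomologicalComplex.exactAt_iff_isZero_homology]
    have hepi := epi_homologyMap_of_exactAt_cone (f • 𝟙 P) j (hex j hj)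
    rw [homologyMap_smul_id] at hepi
    have hsurj : Function.Surjective (fun m : P.homology j => f • m) :=
      (ModuleCat.epi_iff_surjective _).1 hepi
    have := subsingleton_of_smul_surjective (hDC f (List.mem_cons_self) j).1 hsurj
    exact ModuleCat.isZero_of_subsingleton _


/-- **Derived Nakayama, t-exact version** -/
theorem nakayama_le (I : Ideal A) (hI : I.FG) [DRing.HasLTensor A (AI I)]
    (K : Dual.D A) (hc : DRing.IsDerivedComplete I K) :
    (∀ i : ℤ, 0 < i → Subsingleton (Dual.HD A K i)) ↔
      ∀ i : ℤ, 0 < i → Subsingleton (Dual.HD A ((DRing.LTensor A (AI I)).obj K) i) := by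
  constructor
  · intro h i hi
    have hle : K.IsLE 0 := by
      rw [DerivedCategory.isLE_iff]
      intro j hj
      have := h j hj
      exact ModuleCat.isZero_of_subsingleton _
    obtain ⟨P, hPb, -, hPk, ⟨e⟩⟩ := exists_proj_rep K 0
    have h1 : ((TM (AI I)).obj P).ExactAt i := by
      apply HomologicalComplex.ExactAt.of_isZero
      exact Functor.map_isZero (tensorRight (AI I)) (hPb i hi)
    have h2 := (exactAt_iff_subsingleton_HD _ i).1 h1
    exact subsingleton_HD_of_iso ((ltIso (AI I) P).symm ≪≫ (DRing.LTensor A (AI I)).mapIso e) i h2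
  · intro h
    obtain ⟨s, hs⟩ := hI
    obtain ⟨P, p, hP, hfl, hp⟩ := exists_kprojective_flat_resolution (Q.objPreimage K)
    let e : Q.obj P ≅ K := asIso (Q.map p) ≪≫ Q.objObjPreimageIso K
    have hset : {x | x ∈ s.toList} = (s : Set A) := by
      ext x
      simp
    have hex : ∀ j : ℤ, 0 < j → ((TM (AI I)).obj P).ExactAt j := by
      intro j hj
      rw [exactAt_iff_subsingleton_HD]
      exact subsingleton_HD_of_iso
        ((DRing.LTensor A (AI I)).mapIso e.symm ≪≫ ltIso (AI I) P) j (h j hj)
    have hDC : ∀ g ∈ s.toList, ∀ n, DC g (P.homology n) := by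
      intro g hg n
      have h1 := isDerivedComplete_of_iso I e.symm hc
      rw [idc_Q_iff] at h1
      refine h1 g ?_ n
      rw [← hs]
      exact Ideal.subset_span (Finset.mem_toList.mp hg)
    have hP' := exactAt_of_list s.toList P hfl hDC (by
      intro N hN
      rw [hset, hs] at hN
      exact exactAt_tensor_of_killed N hN P hex)
    intro i hi
    exact subsingleton_HD_of_iso e i ((exactAt_iff_subsingleton_HD _ i).1 (hP' i hi))

end Helper5.Nak
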